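import Cfsg.Agent.H372.O8S.Schur
import Cfsg.Agent.H966.PSpAut
import Cfsg.Agent.H198.SympGamma
import Cfsg.Agent.S0814
import Cfsg.Agent.LieClassical.SympCenter
import Cfsg.Agent.H823.O8S.Defs

/-!
# `PSp₆(q)`, `q` even (helper372, S3938-OPLUS8 O6)

An element of order `q + 1` commuting with an element of primitive prime order is the product of three conjugates
commuting with it.
-/

set_option autoImplicit false
set_option linter.unusedSectionVars false

namespace Cfsg.Agent.H372.O8S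

open Cfsg Matrix Module Cfsg.Agent.H436 Cfsg.Agent.ClassicalGeometry Cfsg.Agent.ClassicalGeometry.SympBasic

section sp

variable {K : Type} [Field K] [Fintype K]

theorem two_eq_zero {a : ℕ} (hK : Fintype.card K = 2 ^ a) : (2 : K) = 0 := by
  have : CharP K 2 := by
    obtain ⟨n, hn⟩ := CharP.exists K
    have hnp : n.Prime := CharP.char_is_prime K n
    have : Fact n.Prime := ⟨hnp⟩
    obtain ⟨f, -, hf⟩ := FiniteField.card K n
    rw [hK] at hf
    have h1 : n ∣ 2 ^ a := by rw [hf]; exact dvd_pow_self n f.ne_zero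
    rw [(Nat.prime_dvd_prime_iff_eq hnp Nat.prime_two).1 (hnp.dvd_of_dvd_pow h1)] at hn
    exact hn
  exact CharP.cast_eq_zero K 2

theorem card_V {a : ℕ} (hK : Fintype.card K = 2 ^ a) : Nat.card (Fin 3 ⊕ Fin 3 → K) = 2 ^ (6 * a) := by
  rw [Nat.card_fun, Nat.card_eq_fintype_card, hK, Nat.card_eq_fintype_card, Fintype.card_sum, Fintype.card_fin, ← pow_mul]
  congr 1
  ring

theorem center_bot (h2 : (2 : K) = 0) : Subgroup.center (symplecticGroup (Fin 3) K) = ⊥ := by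
  rw [eq_bot_iff]
  intro A hA
  obtain ⟨c, hc⟩ := (Cfsg.Agent.LieClassical.SympCenter.mem_center_iff 3 A).1 hA
  have h1 : c * c = 1 := Cfsg.Agent.LieClassical.SympCenter.sq_eq_one_of_smul_mem (m := 3) (by norm_num) (hc ▸ A.2)
  have h3 : c = 1 := by
    have h4 : (c - 1) * (c - 1) = 0 := by
      have : (c - 1) * (c - 1) = c * c - 2 * c + 1 := by ring
      rw [this, h1, h2, zero_mul, sub_zero, ← two_mul, h2, zero_mul]
    exact sub_eq_zero.1 (mul_self_eq_zero.1 h4)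
  rw [Subgroup.mem_bot]
  apply Subtype.ext
  rw [hc, h3, one_smul]
  rfl

/-- the action on vectors -/
def lin (A : symplecticGroup (Fin 3) K) : (Fin 3 ⊕ Fin 3 → K) →ₗ[K] (Fin 3 ⊕ Fin 3 → K) := Matrix.mulVecLin A.1

theorem lin_apply (A : symplecticGroup (Fin 3) K) (v : Fin 3 ⊕ Fin 3 → K) : lin A v = A.1 *ᵥ v := rfl

theorem lin_mul (A B : symplecticGroup (Fin 3) K) (v : Fin 3 ⊕ Fin 3 → K) : lin (A * B) v = lin A (lin B v) := by
  rw [lin_apply, lin_apply, lin_apply, Matrix.mulVec_mulVec]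
  rfl

theorem lin_one (v : Fin 3 ⊕ Fin 3 → K) : lin (1 : symplecticGroup (Fin 3) K) v = v := Matrix.one_mulVec v

theorem lin_pow (A : symplecticGroup (Fin 3) K) (n : ℕ) : ∀ v, lin (A ^ n) v = (lin A)^[n] v := by
  induction n with
  | zero => intro v; exact lin_one v
  | succ n ih =>
    intro v
    rw [Function.iterate_succ_apply, ← ih, pow_succ, lin_mul]

theorem lin_inj {A B : symplecticGroup (Fin 3) K} (h : ∀ v, lin A v = lin B v) : A = B := by
  apply Subtype.ext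
  exact Matrix.mulVec_injective (funext h)

/-- the transvection -/
def tv (u : Fin 3 ⊕ Fin 3 → K) (c : K) : symplecticGroup (Fin 3) K := ⟨sympTransvection 3 u c, sympTransvection_mem u c⟩

theorem lin_tv (u v : Fin 3 ⊕ Fin 3 → K) (c : K) : lin (tv u c) v = v + (c * sympForm 3 K v u) • u :=
  sympTransvection_mulVec u v c

theorem tv_mul_self (h2 : (2 : K) = 0) (u : Fin 3 ⊕ Fin 3 → K) (c : K) : tv u c * tv u c = 1 := by
  apply Subtype.ext
  change sympTransvection 3 u c * sympTransvection 3 u c = 1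
  rw [sympTransvection_mul, ← two_mul, h2, zero_mul, sympTransvection_zero]

/-- **the three conjugates in `Sp₆(q)`** -/
theorem three {a r : ℕ} (ha : 1 ≤ a) (hK : Fintype.card K = 2 ^ a) (hP : Prim 2 (6 * a) r) {X T : symplecticGroup (Fin 3) K}
    (hX : X ^ r = 1) (hX1 : X ≠ 1) (hT : orderOf T = 2 ^ a + 1) (hXT : X * T = T * X) :
    ∃ T₁ T₂ T₃ : symplecticGroup (Fin 3) K, IsConj T T₁ ∧ IsConj T T₂ ∧ IsConj T T₃ ∧ T * T₁ = T₁ * T ∧ T * T₂ = T₂ * T ∧
      T * T₃ = T₃ * T ∧ T₁ ∉ Subgroup.zpowers T ∧ T₂ ∉ Subgroup.zpowers T ∧ T₃ ∉ Subgroup.zpowers T ∧ T₁ * T₂ * T₃ = T := by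
  have h2 := two_eq_zero hK
  have hXr : ∀ v, (lin X)^[r] v = v := fun v => by rw [← lin_pow, hX, lin_one]
  have hXne : ∃ v, lin X v ≠ v := by
    by_contra hcon
    push Not at hcon
    exact hX1 (lin_inj fun v => by rw [hcon, lin_one])
  have hcomm : ∀ v, lin X (lin T v) = lin T (lin X v) := fun v => by rw [← lin_mul, hXT, lin_mul]
  have hTq : ∀ v, (lin T)^[2 ^ a + 1] v = v := fun v => by rw [← lin_pow, ← hT, pow_orderOf_eq_one, lin_one]
  obtain ⟨τ, hτ⟩ := trace hP hK (card_V hK) (lin X) hXr hXne (lin T) hcomm hTq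
  have hτ0 : τ ≠ 0 := by
    rintro rfl
    have h1 : T ^ 2 = 1 := lin_inj fun v => by rw [pow_two, lin_mul, hτ, zero_smul, zero_add, lin_one]
    have h3 := orderOf_dvd_of_pow_eq_one h1
    rw [hT] at h3
    have h4 := Nat.le_of_dvd (by norm_num) h3
    have h5 : 2 ≤ 2 ^ a := by
      calc 2 = 2 ^ 1 := rfl
        _ ≤ 2 ^ a := Nat.pow_le_pow_right (by norm_num) ha
    omega
  have hneg : ∀ z : K, -z = z := fun z => by rw [neg_eq_iff_add_eq_zero, ← two_mul, h2, zero_mul]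
  have hS : Sit (sympBilin 3 K) (lin T) τ :=
    { two := h2
      alt := sympForm_self
      sym := fun u v => by rw [sympBilin_apply, sympBilin_apply, sympForm_swap, hneg]
      iso := fun u v => sympForm_mulVec T.2 u v
      quad := hτ
      tne := hτ0
      nd := fun v hv => eq_zero_of_forall_sympForm_left hv }
  have hdim : finrank K (Fin 3 ⊕ Fin 3 → K) = 6 := by
    rw [Module.finrank_fintype_fun_eq_card, Fintype.card_sum, Fintype.card_fin]
  obtain ⟨u, hu⟩ := exists_pl hS 3 (by rw [hdim])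
  let g : Fin 3 → symplecticGroup (Fin 3) K := fun i => tv (u i) (τ * (sympBilin 3 K (u i) (lin T (u i)))⁻¹)
  have hgg : ∀ i, g i * g i = 1 := fun i => tv_mul_self h2 _ _
  have hginv : ∀ i, (g i)⁻¹ = g i := fun i => inv_eq_of_mul_eq_one_right (hgg i)
  have hlin : ∀ i v, lin (g i * T * (g i)⁻¹) v = lin T v + τ • pj (sympBilin 3 K) (lin T) (u i) v := by
    intro i v
    rw [hginv, lin_mul, lin_mul]
    exact conj_eq hS (hu.ne i) (g := fun v => lin (g i) v) (fun v => lin_tv _ _ _) v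
  have hcT : ∀ i, T * (g i * T * (g i)⁻¹) = (g i * T * (g i)⁻¹) * T := by
    intro i
    apply lin_inj
    intro v
    rw [lin_mul, hlin, lin_mul, hlin, pj_T hS, map_add, map_smul]
  have hz : ∀ i j, i ≠ j → g i * T * (g i)⁻¹ ∉ Subgroup.zpowers T := by
    intro i j hij hmem
    obtain ⟨n, hn⟩ := Subgroup.mem_zpowers_iff.1 hmem
    -- `T ^ n` and `T` agree at `u j`
    have h1 : lin (T ^ n) (u j) = lin T (u j) := by
      rw [hn, hlin, pj_ne hu hij, smul_zero, add_zero]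
    have hXn : ∀ v, lin X (lin (T ^ n) v) = lin (T ^ n) (lin X v) := fun v => by
      rw [← lin_mul, ← lin_mul, ((show Commute X T from hXT).zpow_right n).eq]
    have huj : u j ≠ 0 := by
      intro h0
      apply hu.ne j
      rw [h0, map_zero, LinearMap.zero_apply]
    have h3 := eq_zero_of_comm Nat.prime_two hP (card_V hK) (lin X).toAddMonoidHom hXr hXne
      (f := (lin (T ^ n)).toAddMonoidHom - (lin T).toAddMonoidHom) (fun v => by
        change lin X (lin (T ^ n) v - lin T v) = lin (T ^ n) (lin X v) - lin T (lin X v)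
        rw [map_sub, hXn, hcomm]) huj (sub_eq_zero.2 h1)
    have h4 : τ • pj (sympBilin 3 K) (lin T) (u i) (u i) = 0 := by
      have h5 : lin (T ^ n) (u i) - lin T (u i) = 0 := h3 (u i)
      rw [hn, hlin, add_sub_cancel_left] at h5
      exact h5
    rw [pj_self hS (hu.ne i)] at h4
    have hui : u i ≠ 0 := by
      intro h0
      apply hu.ne i
      rw [h0, map_zero, LinearMap.zero_apply]
    rcases smul_eq_zero.1 h4 with h5 | h5
    · exact hτ0 h5
    · exact hui h5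
  refine ⟨g 0 * T * (g 0)⁻¹, g 1 * T * (g 1)⁻¹, g 2 * T * (g 2)⁻¹, isConj_iff.2 ⟨_, rfl⟩, isConj_iff.2 ⟨_, rfl⟩,
    isConj_iff.2 ⟨_, rfl⟩, hcT 0, hcT 1, hcT 2, hz 0 1 (by decide), hz 1 0 (by decide), hz 2 0 (by decide), ?_⟩
  apply lin_inj
  intro v
  have h5 := prod_eq hS hdim hu v
  simp only [LinearMap.add_apply, LinearMap.smul_apply] at h5
  rw [lin_mul, lin_mul, hlin, hlin, hlin]
  exact h5

end sp

/-- an automorphism induced by a semilinear map, on elements -/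
theorem exists_semi {F : Type} [Field F] {m : ℕ} {g : GL (Fin m ⊕ Fin m) F} {σ : F ≃+* F} {β : MulAut (PSp m F)}
    (hg : g ∈ GSp m F) (h : IsInducedBySemilinearPSp g σ β) (s : symplecticGroup (Fin m) F) :
    ∃ s' : symplecticGroup (Fin m) F, β (QuotientGroup.mk s) = QuotientGroup.mk s' ∧
      ∀ v, s'.1 *ᵥ ((g : Matrix (Fin m ⊕ Fin m) (Fin m ⊕ Fin m) F) *ᵥ (fun i => σ (v i))) =
        (g : Matrix (Fin m ⊕ Fin m) (Fin m ⊕ Fin m) F) *ᵥ (fun i => σ ((s.1 *ᵥ v) i)) := by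
  obtain ⟨c, hc⟩ := hg
  set S' : Matrix (Fin m ⊕ Fin m) (Fin m ⊕ Fin m) F :=
    (g : Matrix (Fin m ⊕ Fin m) (Fin m ⊕ Fin m) F) * (s : Matrix (Fin m ⊕ Fin m) (Fin m ⊕ Fin m) F).map σ *
      ((g⁻¹ : GL (Fin m ⊕ Fin m) F) : Matrix (Fin m ⊕ Fin m) (Fin m ⊕ Fin m) F) with hS'
  have hgg : ((g⁻¹ : GL (Fin m ⊕ Fin m) F) : Matrix (Fin m ⊕ Fin m) (Fin m ⊕ Fin m) F) *
      (g : Matrix (Fin m ⊕ Fin m) (Fin m ⊕ Fin m) F) = 1 := by
    rw [← Units.val_mul, inv_mul_cancel, Units.val_one]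
  have hgg' : (g : Matrix (Fin m ⊕ Fin m) (Fin m ⊕ Fin m) F) *
      ((g⁻¹ : GL (Fin m ⊕ Fin m) F) : Matrix (Fin m ⊕ Fin m) (Fin m ⊕ Fin m) F) = 1 := by
    rw [← Units.val_mul, mul_inv_cancel, Units.val_one]
  have h1 : ∀ w : Fin m ⊕ Fin m → F, S' *ᵥ ((g : Matrix (Fin m ⊕ Fin m) (Fin m ⊕ Fin m) F) *ᵥ (fun i => σ (w i)))
      = (g : Matrix (Fin m ⊕ Fin m) (Fin m ⊕ Fin m) F) *ᵥ (fun i => σ (((s : Matrix _ _ F) *ᵥ w) i)) := by
    intro w
    rw [Matrix.mulVec_mulVec, hS', Matrix.mul_assoc, hgg, Matrix.mul_one, ← Matrix.mulVec_mulVec,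
      Cfsg.Agent.H198.SemiMat.map_mulVec]
  have hmem : S' ∈ Matrix.symplecticGroup (Fin m) F := by
    rw [mem_symplecticGroup_iff]
    intro u v
    -- u = g (σ u'), v = g (σ v')
    have hu : ∀ w : Fin m ⊕ Fin m → F, ∃ w' : Fin m ⊕ Fin m → F,
        w = (g : Matrix (Fin m ⊕ Fin m) (Fin m ⊕ Fin m) F) *ᵥ (fun i => σ (w' i)) := by
      intro w
      refine ⟨fun i => σ.symm ((((g⁻¹ : GL (Fin m ⊕ Fin m) F) :
        Matrix (Fin m ⊕ Fin m) (Fin m ⊕ Fin m) F) *ᵥ w) i), ?_⟩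
      simp only [RingEquiv.apply_symm_apply]
      rw [Matrix.mulVec_mulVec, hgg', Matrix.one_mulVec]
    obtain ⟨u', rfl⟩ := hu u
    obtain ⟨v', rfl⟩ := hu v
    rw [h1, h1, hc, hc, Cfsg.Agent.H198.SympGamma.sympForm_map, Cfsg.Agent.H198.SympGamma.sympForm_map,
      sympForm_mulVec s.2]
  exact ⟨⟨S', hmem⟩, h s ⟨S', hmem⟩ rfl, h1⟩

theorem six_dvd {a r : ℕ} (hP : Prim 2 (6 * a) r) : 6 * a ∣ r - 1 := by
  rw [← hP.dvd_iff]
  have : Fact r.Prime := ⟨hP.prime⟩
  have h1 : r ≠ 2 := by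
    rintro rfl
    exact hP.not_dvd dvd_rfl
  have h2 : Nat.Coprime 2 r := by
    rw [Nat.coprime_primes Nat.prime_two hP.prime]
    exact h1.symm
  have h3 := Nat.ModEq.pow_totient h2
  rw [Nat.totient_prime hP.prime] at h3
  exact (Nat.modEq_iff_dvd' Nat.one_le_two_pow).1 h3.symm

section main

variable {K : Type} [Field K] [Fintype K] {a r : ℕ} {R : Type} [Group R] [Finite R] (S : Subgroup R) [S.Normal]

/-- the action on `PSp` -/
def act (e : S ≃* PSp 3 K) : R →* MulAut (PSp 3 K) := (MulAut.congr e).toMonoidHom.comp MulAut.conjNormal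

theorem act_apply (e : S ≃* PSp 3 K) (g : R) (s : S) : act S e g (e s) = e (MulAut.conjNormal g s) := by
  change e (MulAut.conjNormal g (e.symm (e s))) = _
  rw [e.symm_apply_apply]

theorem act_inj (hC : Subgroup.centralizer (S : Set R) = ⊥) (e : S ≃* PSp 3 K) : Function.Injective (act S e) := by
  rw [injective_iff_map_eq_one]
  intro g hg
  have h1 : g ∈ Subgroup.centralizer (S : Set R) := by
    rw [Subgroup.mem_centralizer_iff]
    intro s hs
    have h2 := act_apply S e g ⟨s, hs⟩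
    rw [hg, MulAut.one_apply] at h2
    have h3 := congrArg Subtype.val (e.injective h2)
    rw [MulAut.conjNormal_apply] at h3
    exact eq_mul_inv_iff_mul_eq.1 h3
  rw [hC] at h1
  exact h1

theorem act_of_mem (e : S ≃* PSp 3 K) (s : S) : act S e s = MulAut.conj (e s) := by
  ext y
  obtain ⟨y, rfl⟩ := e.surjective y
  rw [act_apply, MulAut.conj_apply]
  have : MulAut.conjNormal (s : R) y = s * y * s⁻¹ := Subtype.ext (MulAut.conjNormal_apply _ _)
  rw [this, map_mul, map_mul, map_inv]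

/-- an element of order `r` lies in `S` -/
theorem x_mem (ha : 2 ≤ a) (hC : Subgroup.centralizer (S : Set R) = ⊥) (hK : Fintype.card K = 2 ^ a) (hP : Prim 2 (6 * a) r)
    (e : S ≃* PSp 3 K) {x : R} (hx : x ^ r = 1) : x ∈ S := by
  have : Fact (Nat.Prime 2) := ⟨Nat.prime_two⟩
  have hfin : Finite (PSp 3 K) := Finite.of_equiv S e.toEquiv
  have hfin2 : Finite (MulAut (PSp 3 K)) := inferInstance
  have h1 := S0814.result (F := K) 2 a (by omega) hK 3 (by norm_num) (by norm_num)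
  rw [if_neg (by norm_num), one_mul] at h1
  have h2 : Nat.card R ∣ Nat.card (MulAut (PSp 3 K)) := Subgroup.card_dvd_of_injective _ (act_inj S hC e)
  have h3 : Nat.card R ∣ 2 * a * Nat.card S := by
    refine h2.trans ?_
    rw [h1, Nat.card_congr e.toEquiv]
    exact mul_dvd_mul_right (mul_dvd_mul_right (Nat.gcd_dvd_left _ _) _) _
  rw [← S.card_mul_index, mul_comm] at h3
  have h4 : S.index ∣ 2 * a := Nat.dvd_of_mul_dvd_mul_right Nat.card_pos h3
  have h5 : ¬ r ∣ S.index := by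
    intro h6
    have h7 := Nat.le_of_dvd (by omega) (h6.trans h4)
    have h8 := Nat.le_of_dvd (by have := hP.prime.two_le; omega) (six_dvd hP)
    omega
  have h6 : ((x : R ⧸ S) : R ⧸ S) = 1 := by
    have h7 : orderOf (x : R ⧸ S) ∣ r := orderOf_dvd_of_pow_eq_one (by
      rw [← QuotientGroup.mk_pow, hx]; rfl)
    have h8 : orderOf (x : R ⧸ S) ∣ S.index := by
      rw [Subgroup.index_eq_card]
      exact orderOf_dvd_natCard _
    rcases (Nat.dvd_prime hP.prime).1 h7 with h9 | h9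
    · exact orderOf_eq_one_iff.1 h9
    · rw [h9] at h8
      exact absurd h8 h5
  exact (QuotientGroup.eq_one_iff x).1 h6

/-- an element commuting with an element of order `r` lies in `S` -/
theorem t_mem (ha : 2 ≤ a) (hC : Subgroup.centralizer (S : Set R) = ⊥) (hK : Fintype.card K = 2 ^ a) (hP : Prim 2 (6 * a) r)
    (e : S ≃* PSp 3 K) {x t : R} (hx : x ^ r = 1) (hx1 : x ≠ 1) (hxt : x * t = t * x) : t ∈ S := by
  have h2 := two_eq_zero hK
  have hxS := x_mem S ha hC hK hP e hx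
  have hcen := center_bot (K := K) h2
  have hmk : ∀ A B : symplecticGroup (Fin 3) K, (QuotientGroup.mk A : PSp 3 K) = QuotientGroup.mk B → A = B := by
    intro A B hAB
    have h1 := QuotientGroup.eq.1 hAB
    rw [hcen, Subgroup.mem_bot, inv_mul_eq_one] at h1
    exact h1
  obtain ⟨X, hX⟩ := QuotientGroup.mk_surjective (e ⟨x, hxS⟩)
  have hXr : X ^ r = 1 := by
    apply hmk
    rw [QuotientGroup.mk_pow, hX, ← map_pow]
    have : (⟨x, hxS⟩ : S) ^ r = 1 := Subtype.ext hx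
    rw [this, map_one]
    rfl
  have hX1 : X ≠ 1 := by
    rintro rfl
    apply hx1
    have h1 : e ⟨x, hxS⟩ = 1 := hX.symm
    exact congrArg Subtype.val ((map_eq_one_iff e e.injective).1 h1)
  obtain ⟨A, σ, hA, hind⟩ := Cfsg.Agent.H198.SympGamma.exists_pair (F := K) (m := 3) (by norm_num) (Or.inl (by norm_num)) (act S e t)
  obtain ⟨X', hX', hv⟩ := exists_semi hA hind X
  have hXX : X' = X := by
    apply hmk
    rw [← hX', hX, act_apply]
    congr 1
    apply Subtype.ext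
    rw [MulAut.conjNormal_apply]
    change t * x * t⁻¹ = x
    rw [← hxt, mul_inv_cancel_right]
  rw [hXX] at hv
  have hXr' : ∀ v, (lin X)^[r] v = v := fun v => by rw [← lin_pow, hXr, lin_one]
  have hXne : ∃ v, lin X v ≠ v := by
    by_contra hcon
    push Not at hcon
    exact hX1 (lin_inj fun v => by rw [hcon, lin_one])
  -- the semilinear map
  let M : (Fin 3 ⊕ Fin 3 → K) →+ (Fin 3 ⊕ Fin 3 → K) :=
    { toFun := fun v => (A : Matrix (Fin 3 ⊕ Fin 3) (Fin 3 ⊕ Fin 3) K) *ᵥ (fun i => σ (v i))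
      map_zero' := by
        have : (fun i => σ ((0 : Fin 3 ⊕ Fin 3 → K) i)) = 0 := by
          ext i; simp
        rw [this, Matrix.mulVec_zero]
      map_add' := fun v w => by
        have : (fun i => σ ((v + w) i)) = (fun i => σ (v i)) + (fun i => σ (w i)) := by
          ext i; simp
        rw [this, Matrix.mulVec_add] }
  have hM : ∀ v, lin X (M v) = M (lin X v) := hv
  have hσ : σ = RingEquiv.refl K := by
    apply RingEquiv.ext
    intro k
    have h3 := comm_of_comm Nat.prime_two hP (card_V hK) (lin X).toAddMonoidHom hXr' hXne (f := M)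
      (g := (k • (LinearMap.id : (Fin 3 ⊕ Fin 3 → K) →ₗ[K] (Fin 3 ⊕ Fin 3 → K))).toAddMonoidHom) hM (fun v => (lin X).map_smul k v)
    have h4 : ∀ v, M (k • v) = k • M v := h3
    have h5 : ∀ v, M (k • v) = σ k • M v := by
      intro v
      change (A : Matrix (Fin 3 ⊕ Fin 3) (Fin 3 ⊕ Fin 3) K) *ᵥ (fun i => σ (k * v i)) = σ k • (A : Matrix (Fin 3 ⊕ Fin 3) (Fin 3 ⊕ Fin 3) K) *ᵥ (fun i => σ (v i))
      rw [← Matrix.mulVec_smul]
      congr 1
      ext i
      simp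
    -- a vector with `M v ≠ 0`
    obtain ⟨w, hw⟩ : ∃ w : Fin 3 ⊕ Fin 3 → K, w ≠ 0 := exists_ne 0
    have h6 : ∃ v, M v = w := by
      refine ⟨fun i => σ.symm ((((A⁻¹ : GL (Fin 3 ⊕ Fin 3) K) : Matrix (Fin 3 ⊕ Fin 3) (Fin 3 ⊕ Fin 3) K) *ᵥ w) i), ?_⟩
      change (A : Matrix (Fin 3 ⊕ Fin 3) (Fin 3 ⊕ Fin 3) K) *ᵥ (fun i => σ (σ.symm _)) = w
      simp only [RingEquiv.apply_symm_apply]
      rw [Matrix.mulVec_mulVec, ← Units.val_mul, mul_inv_cancel, Units.val_one, Matrix.one_mulVec]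
    obtain ⟨v, rfl⟩ := h6
    have h7 := (h5 v).symm.trans (h4 v)
    rw [← sub_eq_zero, ← sub_smul, smul_eq_zero, sub_eq_zero] at h7
    exact h7.resolve_right hw
  rw [hσ] at hind
  have h8 : act S e t ∈ inndiagPSp 3 K := Subgroup.subset_closure ⟨A, hA, hind⟩
  rw [Cfsg.Agent.H966.PSpAut.inndiag_eq_inner h2] at h8
  obtain ⟨y, hy⟩ := h8
  obtain ⟨s, rfl⟩ := e.surjective y
  rw [← act_of_mem] at hy
  have h9 := act_inj S hC e hy
  rw [← h9]
  exact s.2

/-- **O6** in plain terms -/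
theorem sp6_core (ha : 2 ≤ a) (hC : Subgroup.centralizer (S : Set R) = ⊥) (hK : Fintype.card K = 2 ^ a) (hP : Prim 2 (6 * a) r)
    (e : S ≃* PSp 3 K) {x t : R} (hx : orderOf x = r) (ht : orderOf t = 2 ^ a + 1) (hxt : x * t = t * x) :
    ∃ t₁ t₂ t₃ : R, IsConj t t₁ ∧ IsConj t t₂ ∧ IsConj t t₃ ∧ t * t₁ = t₁ * t ∧ t * t₂ = t₂ * t ∧ t * t₃ = t₃ * t ∧
      t₁ ∉ Subgroup.zpowers t ∧ t₂ ∉ Subgroup.zpowers t ∧ t₃ ∉ Subgroup.zpowers t ∧ t₁ * t₂ * t₃ = t := by
  have h2 := two_eq_zero hK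
  have hcen := center_bot (K := K) h2
  have hmk : ∀ A B : symplecticGroup (Fin 3) K, (QuotientGroup.mk A : PSp 3 K) = QuotientGroup.mk B → A = B := by
    intro A B hAB
    have h1 := QuotientGroup.eq.1 hAB
    rw [hcen, Subgroup.mem_bot, inv_mul_eq_one] at h1
    exact h1
  have hxr : x ^ r = 1 := by rw [← hx, pow_orderOf_eq_one]
  have hx1 : x ≠ 1 := by
    rintro rfl
    rw [orderOf_one] at hx
    exact hP.prime.one_lt.ne hx
  have hxS := x_mem S ha hC hK hP e hxr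
  have htS := t_mem S ha hC hK hP e hxr hx1 hxt
  -- the embedding of `Sp` in `R`
  let ψ : symplecticGroup (Fin 3) K →* R := S.subtype.comp (e.symm.toMonoidHom.comp (QuotientGroup.mk' _))
  have hψ : Function.Injective ψ := by
    intro A B hAB
    exact hmk A B (e.symm.injective (Subtype.ext hAB))
  have hψs : ∀ s ∈ S, ∃ A, ψ A = s := by
    intro s hs
    obtain ⟨A, hA⟩ := QuotientGroup.mk_surjective (e ⟨s, hs⟩)
    refine ⟨A, ?_⟩
    change ((e.symm (QuotientGroup.mk A) : S) : R) = s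
    rw [hA, e.symm_apply_apply]
  obtain ⟨X, rfl⟩ := hψs x hxS
  obtain ⟨T, rfl⟩ := hψs t htS
  have hX : X ^ r = 1 := hψ (by rw [map_pow, hxr, map_one])
  have hX1 : X ≠ 1 := by
    rintro rfl
    exact hx1 (map_one ψ)
  have hT : orderOf T = 2 ^ a + 1 := by rw [← ht, orderOf_injective ψ hψ]
  have hXT : X * T = T * X := hψ (by rw [map_mul, map_mul, hxt])
  obtain ⟨T₁, T₂, T₃, c1, c2, c3, m1, m2, m3, z1, z2, z3, hp⟩ := three (by omega) hK hP hX hX1 hT hXT
  have hz : ∀ T', T' ∉ Subgroup.zpowers T → ψ T' ∉ Subgroup.zpowers (ψ T) := by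
    intro T' h1 h3
    obtain ⟨n, hn⟩ := Subgroup.mem_zpowers_iff.1 h3
    rw [← map_zpow] at hn
    exact h1 ⟨n, hψ hn⟩
  exact ⟨ψ T₁, ψ T₂, ψ T₃, ψ.map_isConj c1, ψ.map_isConj c2, ψ.map_isConj c3, by rw [← map_mul, m1, map_mul],
    by rw [← map_mul, m2, map_mul], by rw [← map_mul, m3, map_mul], hz _ z1, hz _ z2, hz _ z3, by rw [← map_mul, ← map_mul, hp]⟩

end main

section final

variable {K : Type} [Field K] [Fintype K] {p a r k : ℕ} {R : Type} [Group R] [Finite R] (S : Subgroup R) [S.Normal]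
  (hC : Subgroup.centralizer (S : Set R) = ⊥) {x t : R} (hx : orderOf x = r ^ k) (ht : orderOf t = H823.O8S.mt (p ^ a))
  (hxt : x * t = t * x)
include hC hx ht hxt

/-- (O6) `PSp₆(q)`, `q` even: three conjugates of `t` -/
theorem sp6_conj (hp : p = 2) (hK : Fintype.card K = p ^ a) (h : H823.O8S.RK p a r k) (e : S ≃* PSp 3 K) :
    ∃ t₁ t₂ t₃ : R, IsConj t t₁ ∧ IsConj t t₂ ∧ IsConj t t₃ ∧ t * t₁ = t₁ * t ∧ t * t₂ = t₂ * t ∧ t * t₃ = t₃ * t ∧
      t₁ ∉ Subgroup.zpowers t ∧ t₂ ∉ Subgroup.zpowers t ∧ t₃ ∉ Subgroup.zpowers t ∧ t₁ * t₂ * t₃ = t := by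
  subst hp
  have ha : 2 ≤ a := by
    by_contra hlt
    have h1 := h.four
    have h2 : 2 ^ a ≤ 2 ^ 1 := Nat.pow_le_pow_right (by norm_num) (by omega)
    omega
  have hk : k = 1 := by
    rcases h.cases with h1 | ⟨h1, -⟩
    · exact h1.2
    · exfalso
      have h2 := six_dvd h.prim
      rw [h1] at h2
      have h3 := Nat.le_of_dvd (by norm_num) h2
      omega
  rw [hk, pow_one] at hx
  have hm : H823.O8S.mt (2 ^ a) = 2 ^ a + 1 := by
    unfold H823.O8S.mt
    have h1 : Nat.gcd 2 (2 ^ a - 1) = 1 := by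
      rw [← Nat.coprime_iff_gcd_eq_one, Nat.coprime_two_left, Nat.odd_sub' Nat.one_le_two_pow]
      refine ⟨fun _ => ?_, fun _ => odd_one⟩
      exact (Nat.even_pow.2 ⟨even_two, by omega⟩)
    rw [h1, Nat.div_one]
  rw [hm] at ht
  exact sp6_core S ha hC hK h.prim e hx ht hxt

end final

end Cfsg.Agent.H372.O8S
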